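import Cfsg.Agent.Lib.Chev.Bruhat
import Cfsg.Agent.Lib.Chev.Cells
import Cfsg.Agent.Lib.Chev.TitsSystem

/-!
Regular elements of the diagonal subgroup of a tabulated Chevalley group have the diagonal
subgroup as centralizer.
-/

set_option autoImplicit false

namespace Cfsg.Agent.Lib.ChevRegular

open Cfsg.Lie Cfsg.Agent.Lib.Chev
open scoped Matrix

variable {D : ChevalleyDatum} {C : Cert} {F : Type*} [Field F]

/-- A unipotent element of `U` commuting with a regular diagonal element is `1`. -/
theorem eq_one_of_commute_regular (hh : Rooted D C) (c : ℕ → Fˣ)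
    (hne : ∀ r < D.nroots, torusFun D c r ≠ 1)
    (hinj : ∀ r < D.nroots, ∀ r' < D.nroots, torusFun D c r = torusFun D c r' → r = r')
    {u : GL D.Idx F} (hu : u ∈ D.posUnipotent F) (hc : Commute (torusHom D F c) u) : u = 1 := by
  refine hh.eq_one_of_posUnipotent hu ?_
  intro y x hyx
  have e := congrArg (fun g : GL D.Idx F => (g : Matrix D.Idx D.Idx F) y x) hc.eq
  simp only [Units.val_mul, coe_torusHom, ChevalleyDatum.charDiag, Matrix.diagonal_mul,
    Matrix.mul_diagonal] at e
  rw [mul_comm] at e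
  have e' := mul_left_cancel₀ hyx e
  rcases y with i | a <;> rcases x with j | b
  · simp [level]
  · exact absurd (Units.ext (by simpa using e'.symm)) (hne b.1 b.2)
  · exact absurd (Units.ext (by simpa using e')) (hne a.1 a.2)
  · have : a = b := Fin.ext (hinj a.1 a.2 b.1 b.2 (Units.ext (by simpa using e')))
    simp [this]

/-- An element commuting with a regular diagonal element is diagonal. -/
theorem mem_diagonal_of_commute (hh : Rooted D C) (c : ℕ → Fˣ)
    (hne : ∀ r < D.nroots, torusFun D c r ≠ 1)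
    (hinj : ∀ r < D.nroots, ∀ r' < D.nroots, torusFun D c r = torusFun D c r' → r = r')
    {g : GL D.Idx F} (hg : g ∈ D.group F) (hc : Commute (torusHom D F c) g) :
    g ∈ D.diagonalSubgroup F := by
  have h := hh.toChecked
  set s := torusHom D F c with hs
  have hsd : s ∈ D.diagonalSubgroup F := by rw [hh.diagonalSubgroup_eq]; exact ⟨c, rfl⟩
  obtain ⟨L, hL, b, hb, u, hu, rfl⟩ := hh.exists_canonical hg
  set n := nProd h F L with hn
  have hU : ∀ {v : GL D.Idx F}, v ∈ rootGen D F (invSet D C L) → v ∈ D.posUnipotent F := fun hv => by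
    rw [h.posUnipotent_eq]; exact rootGen_mono (h.invSet_subset L) hv
  obtain ⟨t', ht', et⟩ := hh.nProd_conj_diag hL (inv_mem hsd)
  have hu' : s * u * s⁻¹ ∈ rootGen D F (invSet D C L) :=
    (Subgroup.mem_normalizer_iff.1 (hh.diagonal_le_normalizer h.invSet_lt hsd) u).1 hu
  have hb' : s * b * t' ∈ D.borelSubgroup F :=
    mul_mem (mul_mem (Subgroup.mem_sup_right hsd) hb) (Subgroup.mem_sup_right ht')
  have e : b * n * u = s * b * t' * n * (s * u * s⁻¹) := by
    calc b * n * u = (s * (b * n * u)) * s⁻¹ := by rw [hc.eq]; group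
      _ = s * b * (n * s⁻¹) * (s * u * s⁻¹) := by group
      _ = s * b * (t' * n) * (s * u * s⁻¹) := by rw [et]
      _ = s * b * t' * n * (s * u * s⁻¹) := by group
  obtain ⟨eb, eu⟩ := hh.canonical_unique hL hb hb' hu hu' e
  have hu1 : u = 1 := eq_one_of_commute_regular hh c hne hinj (hU hu)
    (by show s * u = u * s; conv_rhs => rw [eu]
        group)
  obtain ⟨v, hv, t, ht, rfl⟩ := hh.mem_borel_iff.1 hb
  have eb' : v⁻¹ * (s * v * s⁻¹) = t * (s * t * t')⁻¹ := by
    calc v⁻¹ * (s * v * s⁻¹) = v⁻¹ * (s * (v * t) * t') * (s * t * t')⁻¹ := by group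
      _ = v⁻¹ * (v * t) * (s * t * t')⁻¹ := by rw [← eb]
      _ = t * (s * t * t')⁻¹ := by group
  have hvm : v⁻¹ * (s * v * s⁻¹) ∈ D.posUnipotent F :=
    mul_mem (inv_mem hv)
      ((Subgroup.mem_normalizer_iff.1 (hh.diagonal_le_normalizer_posUnipotent hsd) v).1 hv)
  have h1 : v⁻¹ * (s * v * s⁻¹) = 1 := Subgroup.mem_bot.1 (hh.posUnipotent_inf_diagonal.le
    (Subgroup.mem_inf.2 ⟨hvm, by rw [eb']; exact mul_mem ht (inv_mem (mul_mem (mul_mem hsd ht) ht'))⟩))
  have hv1 : v = 1 := eq_one_of_commute_regular hh c hne hinj hv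
    (by show s * v = v * s; rw [← mul_inv_eq_iff_eq_mul]; exact (inv_mul_eq_one.1 h1).symm)
  have hst : s * t' = 1 := by
    have := h1 ▸ eb'
    rw [eq_comm, mul_inv_eq_one] at this
    rw [hh.diagonal_commute hsd ht, mul_assoc] at this
    exact mul_eq_left.1 this.symm
  have hns : Commute s n := by
    have : t' = s⁻¹ := (inv_eq_of_mul_eq_one_right hst).symm
    rw [this] at et
    show s * n = n * s
    calc s * n = s * (n * s⁻¹) * s := by group
      _ = s * (s⁻¹ * n) * s := by rw [et]
      _ = n * s := by group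
  have hperm : wperm h L = wperm h [] := by
    refine (h.wperm_eq_iff hL (by intro i hi; simp at hi)).2 fun r hr => ?_
    have hr' := h.perm_lt hL hr
    rw [show perm C [] r = r from rfl]
    refine hinj _ hr' _ hr ?_
    have hx : ∀ a : F, n * xGL h F hr a = xGL h F hr' ((weta C L r : F) * a) * n := fun a =>
      Units.ext (by rw [Units.val_mul, Units.val_mul, coe_xGL, coe_xGL, h.nProd_mul_x hL hr])
    have k1 : xGL h F hr' ((weta C L r : F) * (torusFun D c r : F)) * n =
        xGL h F hr' ((torusFun D c (perm C L r) : F) * (weta C L r : F)) * n := by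
      rw [← hx, ← h.conj_x hr' (c := c), ← mul_one (torusFun D c r : F), ← h.conj_x hr (c := c)]
      calc n * (s * xGL h F hr 1 * s⁻¹) = (n * s) * xGL h F hr 1 * s⁻¹ := by group
        _ = s * (n * xGL h F hr 1) * s⁻¹ := by rw [← hns.eq]; group
        _ = s * xGL h F hr' ((weta C L r : F) * 1) * (n * s⁻¹) := by rw [hx]; group
        _ = s * xGL h F hr' ((weta C L r : F) * 1) * (s⁻¹ * n) := by rw [(hns.inv_left).eq]
        _ = _ := by rw [hs, mul_one]; group
    have k2 := h.x_injective hr' (congrArg Units.val (mul_right_cancel k1))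
    refine Units.ext ?_
    rcases weta_cases (C := C) L r with w | w <;> simp [w] at k2 <;> exact k2.symm
  have hdiag : n ∈ D.diagonalSubgroup F := by
    have := hh.diag_of_wperm_eq (F := F) hL (by intro i hi; simp at hi) hperm
    rw [show nProd h F [] = (1 : GL D.Idx F) by simp [nProd], mul_one] at this
    exact (Subgroup.inv_mem_iff _).1 this
  subst hu1; subst hv1
  rw [one_mul, mul_one]
  exact mul_mem ht hdiag

end Cfsg.Agent.Lib.ChevRegular
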