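import Cfsg.Agent.Lib.Chev.Bruhat

/-!
The centralizer of an element of the diagonal subgroup on which no root is trivial and whose
root values are fixed by no nontrivial Weyl group element is the diagonal subgroup.
-/

set_option autoImplicit false

namespace Cfsg.Agent.Lib.ChevRegular

open Cfsg.Lie Cfsg.Agent.Lib.Chev
open scoped Matrix

variable {D : ChevalleyDatum} {C : Cert} {F : Type*} [Field F]

/-- A unipotent element commuting with a diagonal element on which no root is trivial is `1`. -/
theorem eq_one_of_commute_of_ne (hh : Rooted D C) (c : ℕ → Fˣ)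
    (hne : ∀ r < D.nroots, torusFun D c r ≠ 1)
    {u : GL D.Idx F} (hu : u ∈ D.posUnipotent F) (hc : Commute (torusHom D F c) u) : u = 1 := by
  have h := hh.toChecked
  set L := List.range' (D.nroots / 2) (D.nroots - D.nroots / 2) with hL
  have hmem : ∀ r, r ∈ L ↔ r ∈ posSet D := fun r => by
    rw [hL, List.mem_range'_1, posSet, Set.mem_setOf_eq]; omega
  have hset : ({r | r ∈ L} : Set ℕ) = posSet D := Set.ext hmem
  have hsort : L.Pairwise (· < ·) := List.pairwise_lt_range'
  have hpos : ∀ r ∈ L, r ∈ posSet D := fun r hr => (hmem r).1 hr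
  rw [h.posUnipotent_eq] at hu
  obtain ⟨t, -, ht⟩ := h.exists_prod L hsort hpos (hset ▸ h.closedSet_pos) u (hset ▸ hu)
  set s := torusHom D F c
  have hconj : ∀ l : List ℕ, (∀ r ∈ l, r < D.nroots) → ∀ w : GL D.Idx F,
      (w : Matrix D.Idx D.Idx F) = D.wordMat F (l.map fun r => (r, t r)) →
      ((s * w * s⁻¹ : GL D.Idx F) : Matrix D.Idx D.Idx F) =
        D.wordMat F (l.map fun r => (r, (torusFun D c r : F) * t r)) := by
    intro l
    induction l with
    | nil =>
      intro _ w hw
      have : w = 1 := Units.ext (by simpa [ChevalleyDatum.wordMat] using hw)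
      simp [this, ChevalleyDatum.wordMat]
    | cons r l ih =>
      intro hl w hw
      have hr := hl r List.mem_cons_self
      set w' := (xGL h F hr (t r))⁻¹ * w with hw'
      have e : (w' : Matrix D.Idx D.Idx F) = D.wordMat F (l.map fun r => (r, t r)) := by
        rw [hw', Units.val_mul, hw, List.map_cons, ChevalleyDatum.wordMat, List.map_cons, List.prod_cons,
          ← coe_xGL h hr, ← mul_assoc, Units.inv_mul, one_mul]
        rfl
      have e2 : s * w * s⁻¹ = (s * xGL h F hr (t r) * s⁻¹) * (s * w' * s⁻¹) := by rw [hw']; group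
      rw [e2, h.conj_x hr, Units.val_mul, ih (fun a ha => hl a (List.mem_cons_of_mem _ ha)) w' e, coe_xGL]
      simp [ChevalleyDatum.wordMat]
  have key := hconj L (fun r hr => (hpos r hr).2) u ht
  rw [hc.eq, mul_inv_cancel_right, ht] at key
  have hz := hh.prod_injective L hsort hpos _ _ key
  refine Units.ext ?_
  rw [ht, Units.val_one]
  refine List.prod_eq_one fun m hm => ?_
  obtain ⟨p, hp, rfl⟩ := List.mem_map.1 hm
  obtain ⟨r, hr, rfl⟩ := List.mem_map.1 hp
  have h0 : t r = 0 := by
    by_contra h0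
    refine hne r (hpos r hr).2 (Units.ext ?_)
    rw [Units.val_one]
    exact mul_right_cancel₀ h0 ((hz r hr).symm.trans (one_mul _).symm)
  exact h0 ▸ h.x_zero (F := F) (hpos r hr).2

/-- An element commuting with a diagonal element without fixing Weyl group elements is diagonal. -/
theorem mem_diagonal_of_commute_of_fixing (hh : Rooted D C) (c : ℕ → Fˣ)
    (hne : ∀ r < D.nroots, torusFun D c r ≠ 1)
    (hw : ∀ L, IsWord D L → (∀ r < D.nroots, torusFun D c (perm C L r) = torusFun D c r) →
      ∀ r < D.nroots, perm C L r = r)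
    {g : GL D.Idx F} (hg : g ∈ D.group F) (hc : Commute (torusHom D F c) g) :
    g ∈ D.diagonalSubgroup F := by
  have h := hh.toChecked
  set s := torusHom D F c with hs
  have hsd : s ∈ D.diagonalSubgroup F := by rw [hh.diagonalSubgroup_eq]; exact ⟨c, rfl⟩
  obtain ⟨L, hL, b, hb, u, hu, rfl⟩ := hh.exists_canonical hg
  set n := nProd h F L with hn
  have hU : ∀ {v : GL D.Idx F}, v ∈ rootGen D F (invSet D C L) → v ∈ D.posUnipotent F := fun hv => by
    rw [h.posUnipotent_eq]; exact rootGen_mono (h.invSet_subset L) hv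
  obtain ⟨t', ht', et⟩ := hh.nProd_conj_diag hL (inv_mem hsd)
  have hu' : s * u * s⁻¹ ∈ rootGen D F (invSet D C L) :=
    (Subgroup.mem_normalizer_iff.1 (hh.diagonal_le_normalizer h.invSet_lt hsd) u).1 hu
  have hb' : s * b * t' ∈ D.borelSubgroup F :=
    mul_mem (mul_mem (Subgroup.mem_sup_right hsd) hb) (Subgroup.mem_sup_right ht')
  have e : b * n * u = s * b * t' * n * (s * u * s⁻¹) := by
    calc b * n * u = (s * (b * n * u)) * s⁻¹ := by rw [hc.eq]; group
      _ = s * b * (n * s⁻¹) * (s * u * s⁻¹) := by group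
      _ = s * b * (t' * n) * (s * u * s⁻¹) := by rw [et]
      _ = s * b * t' * n * (s * u * s⁻¹) := by group
  obtain ⟨eb, eu⟩ := hh.canonical_unique hL hb hb' hu hu' e
  have hu1 : u = 1 := eq_one_of_commute_of_ne hh c hne (hU hu)
    (by show s * u = u * s; conv_rhs => rw [eu]
        group)
  obtain ⟨v, hv, t, ht, rfl⟩ := hh.mem_borel_iff.1 hb
  have eb' : v⁻¹ * (s * v * s⁻¹) = t * (s * t * t')⁻¹ := by
    calc v⁻¹ * (s * v * s⁻¹) = v⁻¹ * (s * (v * t) * t') * (s * t * t')⁻¹ := by group
      _ = v⁻¹ * (v * t) * (s * t * t')⁻¹ := by rw [← eb]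
      _ = t * (s * t * t')⁻¹ := by group
  have hvm : v⁻¹ * (s * v * s⁻¹) ∈ D.posUnipotent F :=
    mul_mem (inv_mem hv)
      ((Subgroup.mem_normalizer_iff.1 (hh.diagonal_le_normalizer_posUnipotent hsd) v).1 hv)
  have h1 : v⁻¹ * (s * v * s⁻¹) = 1 := Subgroup.mem_bot.1 (hh.posUnipotent_inf_diagonal.le
    (Subgroup.mem_inf.2 ⟨hvm, by rw [eb']; exact mul_mem ht (inv_mem (mul_mem (mul_mem hsd ht) ht'))⟩))
  have hv1 : v = 1 := eq_one_of_commute_of_ne hh c hne hv
    (by show s * v = v * s; rw [← mul_inv_eq_iff_eq_mul]; exact (inv_mul_eq_one.1 h1).symm)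
  have hst : s * t' = 1 := by
    have := h1 ▸ eb'
    rw [eq_comm, mul_inv_eq_one] at this
    rw [hh.diagonal_commute hsd ht, mul_assoc] at this
    exact mul_eq_left.1 this.symm
  have hns : Commute s n := by
    have : t' = s⁻¹ := (inv_eq_of_mul_eq_one_right hst).symm
    rw [this] at et
    show s * n = n * s
    calc s * n = s * (n * s⁻¹) * s := by group
      _ = s * (s⁻¹ * n) * s := by rw [et]
      _ = n * s := by group
  have hperm : wperm h L = wperm h [] := by
    refine (h.wperm_eq_iff hL (by intro i hi; simp at hi)).2 fun r hr => ?_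
    rw [show perm C [] r = r from rfl]
    refine hw L hL (fun r hr => ?_) r hr
    have hr' := h.perm_lt hL hr
    have hx : ∀ a : F, n * xGL h F hr a = xGL h F hr' ((weta C L r : F) * a) * n := fun a =>
      Units.ext (by rw [Units.val_mul, Units.val_mul, coe_xGL, coe_xGL, h.nProd_mul_x hL hr])
    have k1 : xGL h F hr' ((weta C L r : F) * (torusFun D c r : F)) * n =
        xGL h F hr' ((torusFun D c (perm C L r) : F) * (weta C L r : F)) * n := by
      rw [← hx, ← h.conj_x hr' (c := c), ← mul_one (torusFun D c r : F), ← h.conj_x hr (c := c)]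
      calc n * (s * xGL h F hr 1 * s⁻¹) = (n * s) * xGL h F hr 1 * s⁻¹ := by group
        _ = s * (n * xGL h F hr 1) * s⁻¹ := by rw [← hns.eq]; group
        _ = s * xGL h F hr' ((weta C L r : F) * 1) * (n * s⁻¹) := by rw [hx]; group
        _ = s * xGL h F hr' ((weta C L r : F) * 1) * (s⁻¹ * n) := by rw [(hns.inv_left).eq]
        _ = _ := by rw [hs, mul_one]; group
    have k2 := h.x_injective hr' (congrArg Units.val (mul_right_cancel k1))
    refine Units.ext ?_
    rcases weta_cases (C := C) L r with w | w <;> simp [w] at k2 <;> exact k2.symm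
  have hdiag : n ∈ D.diagonalSubgroup F := by
    have := hh.diag_of_wperm_eq (F := F) hL (by intro i hi; simp at hi) hperm
    rw [show nProd h F [] = (1 : GL D.Idx F) by simp [nProd], mul_one] at this
    exact (Subgroup.inv_mem_iff _).1 this
  subst hu1; subst hv1
  rw [one_mul, mul_one]
  exact mul_mem ht hdiag

end Cfsg.Agent.Lib.ChevRegular
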